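import Cfsg.Agent.Lib.SFourClosed.Main

/-!
`S₄`-free groups with `C(O₂) ≤ O₂`: Thompson factorisation and normality of a strongly closed subgroup.

Main results (namespace `Cfsg.Agent.SFourClosed`):
* `Bound.map_equiv`, `bound_of_sylow`: `Bound` only depends on a Sylow 2-subgroup of the normaliser;
* `Hyp.normal`: a subgroup with `Hyp` is normal;
* `exists_thompson_factor`: every map inside a Sylow 2-subgroup `S` is a map centralising `Ω₁(Z(S))`
  followed by a map normalising `J(S)`.
-/

set_option autoImplicit false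
set_option linter.unusedSectionVars false
set_option linter.style.haveILetI false

namespace Cfsg.Agent.SFourClosed

open AlperinFamily PLocal

universe u

section
variable {G : Type*} [Group G] {H : Type*} [Group H]

theorem Bound.map_equiv {A : Subgroup G} (h : Bound A) (e : G ≃* H) : Bound (A.map e.toMonoidHom) := by
  have hcent : ∀ {X : Subgroup G} {x : G}, e x ∈ Subgroup.centralizer (X.map e.toMonoidHom : Set H) ↔
      x ∈ Subgroup.centralizer (X : Set G) := by
    intro X x
    simp only [Subgroup.mem_centralizer_iff]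
    refine ⟨fun h y hy => ?_, ?_⟩
    · have := h (e y) ⟨y, hy, rfl⟩
      rw [← map_mul, ← map_mul] at this
      exact e.injective this
    · rintro h _ ⟨y, hy, rfl⟩
      show e y * e x = e x * e y
      rw [← map_mul, ← map_mul, h y hy]
  have hc : ∀ X : Subgroup G, (Subgroup.centralizer (X : Set G)).map e.toMonoidHom =
      Subgroup.centralizer (X.map e.toMonoidHom : Set H) := by
    intro X
    ext y
    obtain ⟨x, rfl⟩ := e.surjective y
    rw [hcent]
    exact ⟨fun ⟨z, hz, he⟩ => e.injective he ▸ hz, fun hx => ⟨x, hx, rfl⟩⟩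
  intro R hR hR2 hcm hsq
  set R0 := R.comap e.toMonoidHom with hR0
  have hmap : R0.map e.toMonoidHom = R := Subgroup.map_comap_eq_self_of_surjective e.surjective _
  have h0 : (Subgroup.centralizer (A : Set G)).relIndex R0 ^ 2 ≤
      (Subgroup.centralizer (R0 : Set G)).relIndex A := by
    refine h R0 (fun r hr => ?_) ?_ (fun r hr s hs => ?_) fun r hr => ?_
    · have h1 := hR hr
      rw [Subgroup.mem_normalizer_iff] at h1 ⊢
      intro a
      have hm : ∀ b : G, e b ∈ A.map e.toMonoidHom ↔ b ∈ A := fun b =>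
        ⟨fun ⟨c, hc', hce⟩ => e.injective hce ▸ hc', fun hb => ⟨b, hb, rfl⟩⟩
      rw [← hm, ← hm, h1 (e a)]
      simp
    · exact hR2.comap_of_injective e.toMonoidHom e.injective
    · rw [← hcent]
      simpa using hcm _ hr _ hs
    · rw [← hcent]
      simpa using hsq _ hr
  rw [← Subgroup.relIndex_map_map_of_injective _ _ (f := e.toMonoidHom) e.injective, hc, hmap,
    ← Subgroup.relIndex_map_map_of_injective (Subgroup.centralizer (R0 : Set G)) A
      (f := e.toMonoidHom) e.injective, hc, hmap] at h0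
  exact h0

/-- `Bound` only depends on a Sylow 2-subgroup of the normaliser. -/
theorem bound_of_sylow [Finite G] (S : Sylow 2 G) {A : Subgroup G} (hA : A ≤ (S : Subgroup G))
    (hn : (S : Subgroup G) ≤ Subgroup.normalizer (A : Set G))
    (h : Bound (A.subgroupOf (S : Subgroup G))) : Bound A := by
  haveI : Fact (Nat.Prime 2) := ⟨Nat.prime_two⟩
  intro R hR hR2 hcm hsq
  have hSy : Fusion.IsSylowIn 2 (S : Subgroup G) (Subgroup.normalizer (A : Set G)) :=
    ⟨hn, S.isPGroup', fun _ h1 _ h3 => S.is_maximal' h3 h1⟩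
  obtain ⟨k, hk, hkR⟩ := hSy.exists_conj_le hR2 hR
  set R1 := cj k R with hR1
  have hR1S : R1 ≤ (S : Subgroup G) := by rintro _ ⟨x, hx, rfl⟩; exact hkR x hx
  have hkA : cj k A = A := cj_eq_iff.2 hk
  have hback : ∀ x ∈ Subgroup.centralizer (A : Set G), k * x * k⁻¹ ∈ Subgroup.centralizer (A : Set G) := by
    intro x hx
    have := conj_mem_cj k hx
    rwa [cj_cent, hkA] at this
  set R0 := R1.subgroupOf (S : Subgroup G) with hR0
  have h0 : (Subgroup.centralizer (A.subgroupOf (S : Subgroup G) : Set ↥(S : Subgroup G))).relIndex R0 ^ 2 ≤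
      (Subgroup.centralizer (R0 : Set ↥(S : Subgroup G))).relIndex (A.subgroupOf (S : Subgroup G)) := by
    refine h R0 (fun r hr => ?_) (S.isPGroup'.to_subgroup _) (fun r hr s hs => ?_) fun r hr => ?_
    · exact Subgroup.mem_normalizer_iff.2 fun a => Subgroup.mem_normalizer_iff.1 (hn r.2) (a : G)
    · rw [centralizer_subgroupOf hA]
      obtain ⟨x, hx, hxe⟩ := hr
      obtain ⟨y, hy, hye⟩ := hs
      show (r : G) * (s : G) * (r : G)⁻¹ * (s : G)⁻¹ ∈ Subgroup.centralizer (A : Set G)
      have e1 : (r : G) = k * x * k⁻¹ := hxe.symm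
      have e2 : (s : G) = k * y * k⁻¹ := hye.symm
      rw [e1, e2]
      have := hback _ (hcm x hx y hy)
      simpa [mul_assoc] using this
    · rw [centralizer_subgroupOf hA]
      obtain ⟨x, hx, hxe⟩ := hr
      show (r : G) * (r : G) ∈ Subgroup.centralizer (A : Set G)
      have e1 : (r : G) = k * x * k⁻¹ := hxe.symm
      rw [e1]
      have := hback _ (hsq x hx)
      simpa [mul_assoc] using this
  rw [centralizer_subgroupOf hA, centralizer_subgroupOf hR1S, Subgroup.relIndex_subgroupOf hR1S,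
    Subgroup.relIndex_subgroupOf hA] at h0
  have e1 := relIndex_cj k (Subgroup.centralizer (A : Set G)) R
  rw [cj_cent, hkA] at e1
  have e2 := relIndex_cj k (Subgroup.centralizer (R : Set G)) A
  rw [cj_cent, hkA] at e2
  rwa [e1, e2] at h0

end

section
variable {G : Type u} [Group G] [Finite G]

/-- A subgroup with `Hyp` is normal when `C(O₂) ≤ O₂`. -/
theorem Hyp.normal (hfree : ¬ Cfsg.Involves (Equiv.Perm (Fin 4)) G) (hsec : SecBound G)
    (hc : Subgroup.centralizer (Cfsg.pCore 2 G : Set G) ≤ Cfsg.pCore 2 G)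
    {S : Sylow 2 G} {A : Subgroup G} (h : Hyp S A) : A.Normal := by
  haveI : Fact (Nat.Prime 2) := ⟨Nat.prime_two⟩
  have hset : Setting S A := ⟨h, fun g hg => eq_of_cj_le_normalizer hfree hsec h hg⟩
  have hstrong : ∀ g x, x ∈ A → g * x * g⁻¹ ∈ (S : Subgroup G) → g * x * g⁻¹ ∈ A := fun g x hx hgx =>
    meet_normalizer_le hfree hset g ⟨conj_mem_cj g hx, h.norm hgx⟩
  set U := Cfsg.pCore 2 G with hU
  haveI hUn : U.Normal := Cores.pCore_normal 2 G
  have hUS : U ≤ (S : Subgroup G) := Cores.pCore_le_sylow S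
  set A0 := A ⊓ U with hA0
  haveI hA0n : A0.Normal := by
    refine ⟨fun x hx g => ⟨hstrong g x hx.1 (hUS ?_), ?_⟩⟩ <;> exact hUn.conj_mem x hx.2 g
  set K := Subgroup.normalClosure (A : Set G) with hK
  haveI hKn : K.Normal := Subgroup.normalClosure_normal
  have hKc : K ≤ Subgroup.centralizer (A0 : Set G) := by
    haveI : (Subgroup.centralizer (A0 : Set G)).Normal := Subgroup.normal_centralizer
    exact Subgroup.normalClosure_le_normal
      ((PLocal.elemAb_le_centralizer h.elem).trans (Subgroup.centralizer_le inf_le_left))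
  have hKs : ∀ k ∈ K, ∀ q ∈ U, k * q * k⁻¹ * q⁻¹ ∈ A0 := by
    have hle : K ≤ stab U A0 := by
      haveI := stab_normal U A0
      refine Subgroup.normalClosure_le_normal fun a ha => mem_stab.2 fun q hq => ⟨?_, ?_⟩
      · have h1 : q * a⁻¹ * q⁻¹ ∈ A :=
          (Subgroup.mem_normalizer_iff.1 (h.norm (hUS hq)) a⁻¹).1 (A.inv_mem ha)
        simpa [mul_assoc] using A.mul_mem ha h1
      · exact U.mul_mem (hUn.conj_mem q hq a) (U.inv_mem hq)
    exact fun k hk => mem_stab.1 (hle hk)
  have hmod := PReduced.pMod_of_stabilizes (Cores.isPGroup_pCore 2 G) (inf_le_right : A0 ≤ U) hKc hKs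
  have hK2 : IsPGroup 2 K := by
    intro k
    obtain ⟨i, hi⟩ := hmod k k.2
    obtain ⟨j, hj⟩ := Cores.isPGroup_pCore 2 G ⟨(k : G) ^ 2 ^ i, hc hi⟩
    refine ⟨i + j, Subtype.ext ?_⟩
    have := congrArg Subtype.val hj
    simpa [pow_add, pow_mul] using this
  have hAU : A ≤ U := fun a ha => Cores.le_pCore hKn hK2 (Subgroup.subset_normalClosure ha)
  refine ⟨fun a ha g => ?_⟩
  have hle : cj g A ≤ Subgroup.normalizer (A : Set G) := by
    rintro _ ⟨x, hx, rfl⟩
    exact h.norm (hUS (hUn.conj_mem x (hAU hx) g))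
  rw [← hset.weak g hle]
  exact conj_mem_cj g ha

/-- Thompson factorisation of the maps inside a Sylow 2-subgroup. -/
theorem exists_thompson_factor (hfree : ¬ Cfsg.Involves (Equiv.Perm (Fin 4)) G) (hsec : SecBound G)
    (hc : Subgroup.centralizer (Cfsg.pCore 2 G : Set G) ≤ Cfsg.pCore 2 G) (S : Sylow 2 G)
    {P : Subgroup G} (hP : P ≤ (S : Subgroup G)) {g : G} (hg : cj g P ≤ (S : Subgroup G)) :
    ∃ n c : G, g = n * c ∧ cj c P ≤ (S : Subgroup G) ∧
      (∀ z ∈ Cfsg.omegaOne 2 ((S : Subgroup G) ⊓ Subgroup.centralizer ((S : Subgroup G) : Set G)),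
        c * z = z * c) ∧
      n ∈ Subgroup.normalizer (Cfsg.thompsonSubgroupOf 2 (S : Subgroup G) : Set G) := by
  haveI : Fact (Nat.Prime 2) := ⟨Nat.prime_two⟩
  set U := Cfsg.pCore 2 G with hU
  haveI hUn : U.Normal := Cores.pCore_normal 2 G
  have hUS : U ≤ (S : Subgroup G) := Cores.pCore_le_sylow S
  set Z := Cfsg.omegaOne 2 ((S : Subgroup G) ⊓ Subgroup.centralizer ((S : Subgroup G) : Set G)) with hZ
  have hZS : Z ≤ (S : Subgroup G) ⊓ Subgroup.centralizer ((S : Subgroup G) : Set G) := PLocal.omegaOne_le _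
  have hZU : Z ≤ U := fun z hz => hc (Subgroup.centralizer_le hUS (hZS hz).2)
  set V := Subgroup.normalClosure (Z : Set G) with hV
  haveI hVn : V.Normal := Subgroup.normalClosure_normal
  have hVU : V ≤ U := Subgroup.normalClosure_le_normal hZU
  have hVS : V ≤ (S : Subgroup G) := hVU.trans hUS
  have hUc : V ≤ Subgroup.centralizer (U : Set G) := by
    haveI : (Subgroup.centralizer (U : Set G)).Normal := Subgroup.normal_centralizer
    exact Subgroup.normalClosure_le_normal fun z hz => Subgroup.centralizer_le hUS (hZS hz).2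
  have hVab : V ≤ Subgroup.centralizer (V : Set G) := hUc.trans (Subgroup.centralizer_le hVU)
  have hVe : Cfsg.IsElementaryAbelian 2 V := by
    refine ⟨Subgroup.le_centralizer_iff_isMulCommutative.1 hVab, fun v hv => ?_⟩
    let E : Subgroup G :=
      { carrier := {x : G | x ∈ V ∧ x ^ 2 = 1}
        one_mem' := ⟨V.one_mem, one_pow 2⟩
        mul_mem' := fun {x y} hx hy => ⟨V.mul_mem hx.1 hy.1, by
          rw [(Commute.mul_pow (Subgroup.mem_centralizer_iff.1 (hVab hy.1) x hx.1 : Commute x y)),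
            hx.2, hy.2, one_mul]⟩
        inv_mem' := fun {x} hx => ⟨V.inv_mem hx.1, by rw [inv_pow, hx.2, inv_one]⟩ }
    haveI : E.Normal := ⟨fun x hx a => ⟨hVn.conj_mem x hx.1 a, by rw [conj_pow, hx.2, mul_one, mul_inv_cancel]⟩⟩
    have hz2 : ∀ z ∈ Z, z ^ 2 = 1 := by
      intro z hz
      induction hz using Subgroup.closure_induction with
      | mem y hy => exact hy.2
      | one => exact one_pow 2
      | mul a b ha hb iha ihb =>
        have hab : Commute a b :=
          Subgroup.mem_centralizer_iff.1 (hVab (Subgroup.subset_normalClosure hb)) a (Subgroup.subset_normalClosure ha)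
        rw [hab.mul_pow, iha, ihb, one_mul]
      | inv a _ iha => rw [inv_pow, iha, inv_one]
    have hle : V ≤ E := Subgroup.normalClosure_le_normal fun z hz =>
      ⟨Subgroup.subset_normalClosure hz, hz2 z hz⟩
    exact (hle hv).2
  have hSV : (S : Subgroup G) ≤ Subgroup.normalizer (V : Set G) := by
    rw [Subgroup.normalizer_eq_top V]; exact le_top
  have hbd : Bound V := by
    refine bound_of_fix hfree hsec S hVe hVS hSV ?_
    set N := Subgroup.normalizer (V : Set G)
    set C := (Subgroup.centralizer (V : Set G)).subgroupOf N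
    haveI : (Subgroup.centralizer (V : Set G)).Normal := Subgroup.normal_centralizer
    haveI : C.Normal := inferInstanceAs ((Subgroup.centralizer (V : Set G)).subgroupOf N).Normal
    intro Q hQn hmod q hq
    haveI := hQn
    haveI : (C ⊔ Q).Normal := inferInstance
    have hdec : C ⊔ Q = C ⊔ (((S.subtype hSV : Sylow 2 ↥N) : Subgroup ↥N) ⊓ (C ⊔ Q)) :=
      PReduced.eq_sup_sylow_inf_of_pMod _ le_sup_left (by rw [sup_comm]; exact PReduced.pMod_sup hmod)
    have hle : C ⊔ Q ≤ (Subgroup.centralizer (Z : Set G)).subgroupOf N := by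
      rw [hdec]
      refine sup_le (Subgroup.comap_mono (Subgroup.centralizer_le Subgroup.le_normalClosure))
        (inf_le_left.trans (Subgroup.comap_mono ?_))
      exact le_cent_comm fun z hz => (hZS hz).2
    show (q : G) ∈ Subgroup.centralizer (V : Set G)
    refine le_cent_comm ?_ (Subgroup.mem_zpowers (q : G))
    rw [hV, Subgroup.normalClosure, Subgroup.closure_le]
    intro x hx
    obtain ⟨z, hz, hzx⟩ := Group.mem_conjugatesOfSet_iff.1 hx
    obtain ⟨n, rfl⟩ := isConj_iff.1 hzx
    have hn : n ∈ N := by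
      show n ∈ Subgroup.normalizer (V : Set G)
      rw [Subgroup.normalizer_eq_top V]; exact Subgroup.mem_top n
    have h1 : n⁻¹ * (q : G) * n ∈ Subgroup.centralizer (Z : Set G) := by
      have := hle ((inferInstance : (C ⊔ Q).Normal).conj_mem q (Subgroup.mem_sup_right hq) ⟨n, hn⟩⁻¹)
      simpa [Subgroup.mem_subgroupOf] using this
    refine Subgroup.mem_centralizer_iff.2 fun y hy => ?_
    obtain ⟨i, rfl⟩ := Subgroup.mem_zpowers_iff.1 hy
    have h2 : Commute (n⁻¹ * (q : G) * n) z := (Subgroup.mem_centralizer_iff.1 h1 z hz).symm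
    have h3 : Commute (q : G) (n * z * n⁻¹) := by
      have := h2.map (MulAut.conj n).toMonoidHom
      simpa [mul_assoc] using this
    exact (h3.zpow_left i).eq
  set J := Cfsg.thompsonSubgroupOf 2 (S : Subgroup G) with hJ
  have hJV : J ≤ Subgroup.centralizer (V : Set G) := cent_jOf hVe hbd hVS hSV
  set C := Subgroup.centralizer (V : Set G) with hC
  haveI hCn : C.Normal := Subgroup.normal_centralizer
  set T := (S : Subgroup G) ⊓ C with hT
  set N := Subgroup.normalizer (T : Set G) with hN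
  have hSN : (S : Subgroup G) ≤ N := fun s hs => Subgroup.mem_normalizer_iff.2 fun x =>
    ⟨fun hx => ⟨(S : Subgroup G).mul_mem ((S : Subgroup G).mul_mem hs hx.1) ((S : Subgroup G).inv_mem hs),
      hCn.conj_mem x hx.2 s⟩, fun hx => by
      refine ⟨?_, ?_⟩
      · have h1 := (S : Subgroup G).mul_mem ((S : Subgroup G).mul_mem ((S : Subgroup G).inv_mem hs) hx.1) hs
        rwa [show s⁻¹ * (s * x * s⁻¹) * s = x by group] at h1
      · have := hCn.conj_mem _ hx.2 s⁻¹
        simpa [mul_assoc] using this⟩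
  have hNJ : N ≤ Subgroup.normalizer (J : Set G) := by
    have h1 : Cfsg.thompsonSubgroupOf 2 T = J :=
      JComp.jOf_eq_of_between (le_inf (JComp.jOf_le _) hJV) inf_le_left
    rw [← h1]
    exact PLocal.normalizer_le_normalizer_thompsonSubgroupOf _
  obtain ⟨n, hn, c, hcC, rfl⟩ := PReduced.frattini_sylow_inf_mul S C g
  -- move the intermediate image into `S`
  have hPN : cj c P ≤ N := by
    rintro _ ⟨x, hx, rfl⟩
    have h1 := hSN (hg (conj_mem_cj (n * c) hx))
    have := N.mul_mem (N.mul_mem (N.inv_mem hn) h1) hn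
    simpa [mul_assoc] using this
  have hPCS : cj c P ≤ C ⊔ (S : Subgroup G) := by
    rintro _ ⟨x, hx, rfl⟩
    exact mul_mem (mul_mem (Subgroup.mem_sup_left hcC) (Subgroup.mem_sup_right (hP hx)))
      (inv_mem (Subgroup.mem_sup_left hcC))
  have hSy : Fusion.IsSylowIn 2 (S : Subgroup G) (N ⊓ (C ⊔ (S : Subgroup G))) :=
    ⟨le_inf hSN le_sup_right, S.isPGroup', fun _ h1 _ h3 => S.is_maximal' h3 h1⟩
  obtain ⟨k, hk, hkP⟩ := hSy.exists_conj_le ((S.isPGroup'.to_le hP).map _) (le_inf hPN hPCS)
  obtain ⟨d, hd, s, hs, rfl⟩ : ∃ d ∈ C, ∃ s ∈ (S : Subgroup G), k = s * d := by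
    have h1 : k ∈ ((C ⊔ (S : Subgroup G) : Subgroup G) : Set G) := hk.2
    rw [sup_comm, Subgroup.mul_normal] at h1
    obtain ⟨s, hs, d, hd, rfl⟩ := Set.mem_mul.1 h1
    exact ⟨d, hd, s, hs, rfl⟩
  have hdN : d ∈ N := by
    have := N.mul_mem (N.inv_mem (hSN hs)) hk.1
    simpa [mul_assoc] using this
  refine ⟨n * d⁻¹, d * c, by group, ?_, fun z hz => ?_, hNJ (N.mul_mem hn (N.inv_mem hdN))⟩
  · rw [← cj_cj]
    rintro _ ⟨x, hx, rfl⟩
    have := mul_mem (mul_mem (inv_mem hs) (hkP x hx)) hs
    simpa [mul_assoc] using this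
  · exact (Subgroup.mem_centralizer_iff.1 (C.mul_mem hd hcC) z (Subgroup.subset_normalClosure hz)).symm

end

end Cfsg.Agent.SFourClosed
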