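import Cfsg.Agent.Lib.Coprime.Invariant
import Cfsg.Agent.Lib.Coprime.Generation
import Cfsg.Agent.Lib.Cores.Subnormal
import Cfsg.Agent.Lib.Solvable.Fitting
import Cfsg.Agent.Lib.OddOrderTheorem.Basic
import Cfsg.Agent.Lib.Coprime.PQ
import Cfsg.Agent.Lib.PReduced.Tools

/-!
# Perfect residuals and groups with abelian Sylow 2-subgroups (owner: helper21)

* `perf H` : the largest perfect subgroup of `H`; `dser` : the derived series inside the ambient group
* `oc H` : the odd core of `H`
* `jof H P` : `perf H` together with the odd core of `H ∩ N(P ∩ perf H)`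
* `odd_le_jof`, `le_jof_sup_normalizer` : the two properties of `jof`
-/

set_option autoImplicit false
set_option linter.style.haveILetI false

namespace Cfsg.Agent.SFourBound

open Subgroup
open scoped commutatorElement

variable {G : Type*} [Group G]

/-- The derived series of a subgroup, inside the ambient group. -/
def dser (H : Subgroup G) : ℕ → Subgroup G
  | 0 => H
  | n + 1 => ⁅dser H n, dser H n⁆

/-- The largest perfect subgroup. -/
def perf (H : Subgroup G) : Subgroup G := sSup {L : Subgroup G | L ≤ H ∧ ⁅L, L⁆ = L}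

theorem perf_le (H : Subgroup G) : perf H ≤ H := sSup_le fun _ h => h.1

theorem le_perf {L H : Subgroup G} (h : L ≤ H) (hL : ⁅L, L⁆ = L) : L ≤ perf H := le_sSup ⟨h, hL⟩

theorem perf_perfect (H : Subgroup G) : ⁅perf H, perf H⁆ = perf H := by
  refine le_antisymm (commutator_le_self _) (sSup_le fun L hL => ?_)
  exact hL.2.ge.trans (commutator_mono (le_sSup hL) (le_sSup hL))

theorem perf_mono {H K : Subgroup G} (h : H ≤ K) : perf H ≤ perf K :=
  le_perf ((perf_le H).trans h) (perf_perfect H)

theorem normalizer_le_normalizer_perf [Finite G] (H : Subgroup G) :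
    normalizer (H : Set G) ≤ normalizer (perf H : Set G) := by
  intro g hg
  refine Coprime.mem_normalizer_of_forall fun x hx => ?_
  have h1 : (perf H).map (MulAut.conj g).toMonoidHom ≤ perf H := by
    refine le_perf ?_ (by rw [← map_commutator, perf_perfect])
    rintro _ ⟨y, hy, rfl⟩
    exact (mem_normalizer_iff.1 hg y).1 (perf_le H hy)
  exact h1 ⟨x, hx, rfl⟩

theorem map_dser {G' : Type*} [Group G'] (f : G →* G') (H : Subgroup G) :
    ∀ n, (dser H n).map f = dser (H.map f) n
  | 0 => rfl
  | n + 1 => by rw [dser, map_commutator, map_dser f H n]; rfl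

theorem dser_le (H : Subgroup G) : ∀ n, dser H n ≤ H
  | 0 => le_rfl
  | n + 1 => (commutator_le_self _).trans (dser_le H n)

theorem dser_mono {H K : Subgroup G} (h : H ≤ K) : ∀ n, dser H n ≤ dser K n
  | 0 => h
  | n + 1 => commutator_mono (dser_mono h n) (dser_mono h n)

theorem dser_add (H : Subgroup G) (n : ℕ) : ∀ m, dser H (n + m) = dser (dser H n) m
  | 0 => rfl
  | m + 1 => by
    show ⁅dser H (n + m), dser H (n + m)⁆ = ⁅dser (dser H n) m, dser (dser H n) m⁆
    rw [dser_add H n m]

theorem dser_of_perfect {H : Subgroup G} (h : ⁅H, H⁆ = H) : ∀ n, dser H n = H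
  | 0 => rfl
  | n + 1 => by rw [dser, dser_of_perfect h n, h]

theorem exists_dser_perfect [Finite G] (H : Subgroup G) : ∃ n, ⁅dser H n, dser H n⁆ = dser H n := by
  obtain ⟨_, ⟨n, rfl⟩, hmin⟩ := wellFounded_lt.has_min (Set.range (dser H)) ⟨_, 0, rfl⟩
  exact ⟨n, (commutator_le_self _).eq_of_not_lt (hmin _ ⟨n + 1, rfl⟩)⟩

theorem exists_dser_le_perf [Finite G] (H : Subgroup G) : ∃ n, dser H n ≤ perf H := by
  obtain ⟨n, hn⟩ := exists_dser_perfect H
  exact ⟨n, le_perf (dser_le H n) hn⟩

theorem isSolvable_of_dser {H : Subgroup G} {n : ℕ} (h : dser H n = ⊥) : Group.IsSolvable H := by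
  refine ⟨⟨n, ?_⟩⟩
  have h1 : ∀ m, (derivedSeries H m).map H.subtype = dser H m := by
    intro m
    induction m with
    | zero => simp [dser, ← MonoidHom.range_eq_map]
    | succ m ih => rw [derivedSeries_succ, map_commutator, ih]; rfl
  exact (map_eq_bot_iff_of_injective _ H.subtype_injective).1 ((h1 n).trans h)

theorem exists_dser_eq_bot {H : Subgroup G} (h : Group.IsSolvable H) : ∃ n, dser H n = ⊥ := by
  obtain ⟨⟨n, hn⟩⟩ := h
  refine ⟨n, ?_⟩
  have h1 : ∀ m, (derivedSeries H m).map H.subtype = dser H m := by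
    intro m
    induction m with
    | zero => simp [dser, ← MonoidHom.range_eq_map]
    | succ m ih => rw [derivedSeries_succ, map_commutator, ih]; rfl
  rw [← h1 n, hn, Subgroup.map_bot]

/-- A perfect subgroup of an image lies in the image of the perfect residual. -/
theorem perfect_le_map_perf [Finite G] {G' : Type*} [Group G'] (f : G →* G') {H : Subgroup G}
    {D : Subgroup G'} (hD : D ≤ H.map f) (hp : ⁅D, D⁆ = D) : D ≤ (perf H).map f := by
  obtain ⟨n, hn⟩ := exists_dser_le_perf H
  calc D = dser D n := (dser_of_perfect hp n).symm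
    _ ≤ dser (H.map f) n := dser_mono hD n
    _ = (dser H n).map f := (map_dser f H n).symm
    _ ≤ (perf H).map f := map_mono hn

/-- A perfect subgroup of `J N` with `J` normal lies in `J perf(N)`. -/
theorem perfect_le_sup_perf [Finite G] {J N D : Subgroup G} [J.Normal] (hD : D ≤ J ⊔ N)
    (hp : ⁅D, D⁆ = D) : D ≤ J ⊔ perf N := by
  set π := QuotientGroup.mk' J
  have h1 : D.map π ≤ (perf N).map π := by
    refine perfect_le_map_perf π ((map_mono hD).trans ?_) (by rw [← map_commutator, hp])
    rw [Subgroup.map_sup, (Subgroup.map_eq_bot_iff _).2 (QuotientGroup.ker_mk' J).ge, bot_sup_eq]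
  have h2 : D ≤ ((perf N).map π).comap π := map_le_iff_le_comap.1 h1
  rwa [comap_map_eq, QuotientGroup.ker_mk', sup_comm] at h2

/-! ### The odd core inside the ambient group -/

/-- The odd core of a subgroup. -/
def oc (H : Subgroup G) : Subgroup G := (Cfsg.pPrimeCore 2 H).map H.subtype

theorem oc_le (H : Subgroup G) : oc H ≤ H := map_subtype_le _

theorem odd_oc [Finite G] (H : Subgroup G) : Odd (Nat.card (oc H)) := by
  rw [oc, Cores.card_map_subtype]
  exact Nat.coprime_two_right.1 (Cores.coprime_card_pPrimeCore 2)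

theorem normalizer_le_normalizer_oc (H : Subgroup G) :
    normalizer (H : Set G) ≤ normalizer (oc H : Set G) := Cores.normalizer_le_normalizer_map _

/-! ### Abelian Sylow 2-subgroups -/

/-- All 2-subgroups are commutative. -/
def TwoAb (G : Type*) [Group G] : Prop := ∀ Q : Subgroup G, IsPGroup 2 Q → IsMulCommutative Q

theorem TwoAb.comm (h : TwoAb G) {Q : Subgroup G} (hQ : IsPGroup 2 Q) {x y : G} (hx : x ∈ Q)
    (hy : y ∈ Q) : x * y = y * x :=
  congrArg Subtype.val ((h Q hQ).is_comm.comm ⟨x, hx⟩ ⟨y, hy⟩)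

theorem TwoAb.sylow_le_centralizer (h : TwoAb G) (P : Sylow 2 G) {x : G} (hx : x ∈ (P : Subgroup G)) :
    (P : Subgroup G) ≤ centralizer ({x} : Set G) := fun _ hy =>
  mem_centralizer_singleton_iff.2 (h.comm P.isPGroup' hy hx)

theorem TwoAb.subgroup (h : TwoAb G) (H : Subgroup G) : TwoAb H := fun Q hQ =>
  ⟨⟨fun a b => Subtype.ext (Subtype.ext (h.comm (hQ.map H.subtype)
    (mem_map_of_mem H.subtype a.2) (mem_map_of_mem H.subtype b.2)))⟩⟩

theorem TwoAb.of_surjective [Finite G] {G' : Type*} [Group G'] (h : TwoAb G) (f : G →* G')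
    (hf : Function.Surjective f) : TwoAb G' := by
  haveI : Fact (Nat.Prime 2) := ⟨Nat.prime_two⟩
  haveI : Finite G' := Finite.of_surjective f hf
  intro Q hQ
  obtain ⟨T, hT⟩ := hQ.exists_le_sylow
  obtain ⟨S⟩ : Nonempty (Sylow 2 G) := inferInstance
  obtain ⟨g', hg⟩ := MulAction.exists_smul_eq G' (S.mapSurjective hf) T
  obtain ⟨g, rfl⟩ := hf g'
  have hmem : ∀ x ∈ Q, ∃ s ∈ ((g • S : Sylow 2 G) : Subgroup G), f s = x := by
    intro x hx
    have h1 := hT hx
    rw [← hg, Sylow.coe_subgroup_smul, Coprime.mem_conj] at h1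
    obtain ⟨s, hs, he⟩ := h1
    refine ⟨g * s * g⁻¹, ?_, ?_⟩
    · rw [Sylow.coe_subgroup_smul]; exact Coprime.conj_mem_conj.2 hs
    · rw [map_mul, map_mul, map_inv, he]; group
  refine ⟨⟨fun a b => Subtype.ext ?_⟩⟩
  obtain ⟨s, hs, hsa⟩ := hmem a a.2
  obtain ⟨t, ht, htb⟩ := hmem b b.2
  show (a : G') * b = b * a
  rw [← hsa, ← htb, ← map_mul, ← map_mul, h.comm (g • S : Sylow 2 G).isPGroup' hs ht]

/-- In a soluble group with abelian Sylow 2-subgroup `P`, `P`-invariant odd subgroups lie in the core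
and the Sylow subgroup is normal modulo the core. -/
theorem solvable_core [Finite G] [Group.IsSolvable G] (hab : TwoAb G) (P : Sylow 2 G) :
    (Cfsg.pPrimeCore 2 G ⊔ normalizer ((P : Subgroup G) : Set G) = ⊤) ∧
      ∀ D : Subgroup G, Odd (Nat.card D) → (P : Subgroup G) ≤ normalizer (D : Set G) →
        D ≤ Cfsg.pPrimeCore 2 G := by
  haveI : Fact (Nat.Prime 2) := ⟨Nat.prime_two⟩
  set O := Cfsg.pPrimeCore 2 G with hO
  set π := QuotientGroup.mk' O with hπ
  have hsur : Function.Surjective π := QuotientGroup.mk'_surjective O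
  have hab' := hab.of_surjective π hsur
  let T : Sylow 2 (G ⧸ O) := P.mapSurjective hsur
  haveI : Group.IsSolvable (G ⧸ O) := Group.isSolvable_of_surjective hsur
  set Q := Cfsg.pCore 2 (G ⧸ O)
  have hQT : Q ≤ (T : Subgroup (G ⧸ O)) := Cores.pCore_le_sylow T
  have hCQ := Solvable.centralizer_pCore_le_of_isSolvable (G := G ⧸ O) (p := 2)
    (Cores.pPrimeCore_quotient_self 2)
  have hTQ : (T : Subgroup (G ⧸ O)) = Q := le_antisymm
    (fun t ht => hCQ (mem_centralizer_iff.2 fun q hq => hab'.comm T.isPGroup' (hQT hq) ht)) hQT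
  haveI hTn : (T : Subgroup (G ⧸ O)).Normal := hTQ ▸ Cores.pCore_normal 2 _
  constructor
  · set M := O ⊔ (P : Subgroup G) with hM
    haveI : M.Normal := by
      have hM' : M = ((T : Subgroup (G ⧸ O))).comap π := by
        rw [Sylow.coe_mapSurjective, comap_map_eq, hπ, QuotientGroup.ker_mk', hM, sup_comm]
      rw [hM']
      infer_instance
    have h1 := Sylow.normalizer_sup_eq_top' P (le_sup_right : (P : Subgroup G) ≤ M)
    rw [eq_top_iff, ← h1]
    exact sup_le le_sup_right (sup_le le_sup_left (Subgroup.le_normalizer.trans le_sup_right))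
  · intro D hD hPD
    have hD' : Odd (Nat.card (D.map π)) := hD.of_dvd_nat (card_map_dvd _ _)
    have hcop : (Nat.card (T : Subgroup (G ⧸ O))).Coprime (Nat.card (D.map π)) := by
      obtain ⟨k, hk⟩ := IsPGroup.iff_card.1 T.isPGroup'
      rw [hk]
      exact (Nat.coprime_two_left.2 hD').pow_left k
    have hTD : (T : Subgroup (G ⧸ O)) ≤ normalizer (D.map π : Set (G ⧸ O)) := by
      rw [Sylow.coe_mapSurjective]
      exact (map_mono hPD).trans (le_normalizer_map π)
    have hDT : D.map π ≤ centralizer ((T : Subgroup (G ⧸ O)) : Set (G ⧸ O)) := fun d hd =>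
      Coprime.mem_centralizer_of_normalizer hTD hcop hd
        (by rw [Subgroup.normalizer_eq_top]; exact mem_top d)
    have hbot : D.map π = ⊥ := by
      rw [← le_bot_iff, ← Coprime.inf_eq_bot hcop]
      refine le_inf ?_ le_rfl
      rw [hTQ] at hDT ⊢
      exact hDT.trans hCQ
    rw [Subgroup.map_eq_bot_iff, hπ, QuotientGroup.ker_mk'] at hbot
    exact hbot

/-- `perf H` with the odd core of `H ∩ N(P ∩ perf H)`. -/
def jof (H P : Subgroup G) : Subgroup G :=
  perf H ⊔ oc (H ⊓ normalizer ((P ⊓ perf H : Subgroup G) : Set G))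

theorem jof_le (H P : Subgroup G) : jof H P ≤ H :=
  sup_le (perf_le H) ((oc_le _).trans inf_le_left)

section

variable [Finite G] (hab : TwoAb G) (P : Sylow 2 G) {H : Subgroup G} (hPH : (P : Subgroup G) ≤ H)
include hab hPH

theorem normal_sylow_trace :
    (P : Subgroup G) ≤ H ⊓ normalizer (((P : Subgroup G) ⊓ perf H : Subgroup G) : Set G) :=
  le_inf hPH fun x hx => Coprime.mem_normalizer_of_forall fun y hy => by
    rw [hab.comm P.isPGroup' hx hy.1, mul_inv_cancel_right]; exact hy

theorem isSolvable_trace :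
    Group.IsSolvable ↥(H ⊓ normalizer (((P : Subgroup G) ⊓ perf H : Subgroup G) : Set G)) := by
  haveI : Fact (Nat.Prime 2) := ⟨Nat.prime_two⟩
  set K := H ⊓ normalizer (((P : Subgroup G) ⊓ perf H : Subgroup G) : Set G) with hK
  set T := (P : Subgroup G) ⊓ perf H with hT
  set M := K ⊓ perf H with hM
  have hPK : (P : Subgroup G) ≤ K := normal_sylow_trace hab P hPH
  have hTM : T ≤ M := le_inf (inf_le_left.trans hPK) inf_le_right
  haveI hTn : (T.subgroupOf M).Normal :=
    normal_subgroupOf_of_le_normalizer (inf_le_left.trans inf_le_right)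
  haveI hTc : IsMulCommutative (T.subgroupOf M) := ⟨⟨fun a b => Subtype.ext (Subtype.ext
    (hab.comm P.isPGroup' (mem_subgroupOf.1 a.2).1 (mem_subgroupOf.1 b.2).1))⟩⟩
  have hPnd : ¬ 2 ∣ (P : Subgroup G).relIndex M := by
    have h1 : (P : Subgroup G).relIndex K ∣ (P : Subgroup G).index := relIndex_dvd_index_of_le hPK
    have h2 : ¬ 2 ∣ (P : Subgroup G).relIndex K := fun h => P.not_dvd_index (h.trans h1)
    have hKnM : K ≤ normalizer (M : Set G) := le_trans (le_inf le_normalizer
      ((inf_le_left.trans le_normalizer).trans (normalizer_le_normalizer_perf H)))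
      (inf_normalizer_le_normalizer_inf)
    haveI : (M.subgroupOf K).Normal := normal_subgroupOf_of_le_normalizer hKnM
    let S : Sylow 2 K := P.subtype hPK
    have h3 : ¬ 2 ∣ ((S : Subgroup K) ⊓ M.subgroupOf K).relIndex (M.subgroupOf K) := by
      rw [inf_relIndex_right]
      exact fun h => S.not_dvd_index (h.trans (Cores.relIndex_dvd_index_of_normal_right _ _))
    intro h
    apply h3
    rw [inf_relIndex_right, Sylow.coe_subtype, relIndex_subgroupOf inf_le_left]
    exact h
  have hsolM : Group.IsSolvable M := by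
    haveI : Group.IsSolvable (T.subgroupOf M) := Coprime.isSolvable_of_isPGroup (p := 2)
      ((P.isPGroup'.to_le (inf_le_left : T ≤ (P : Subgroup G))).comap_of_injective M.subtype M.subtype_injective)
    haveI : Group.IsSolvable (M ⧸ T.subgroupOf M) := OddOrderTheorem.solvable (by
      rw [← index_eq_card, ← relIndex]
      refine Nat.not_even_iff_odd.1 fun he => hPnd ?_
      have hTP : T.subgroupOf M = (P : Subgroup G).subgroupOf M := by
        ext x
        simp only [mem_subgroupOf, hT, mem_inf]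
        exact and_iff_left x.2.2
      rw [relIndex, ← hTP, ← relIndex]
      exact even_iff_two_dvd.1 he)
    exact Group.isSolvable_of_ker_le_range (T.subgroupOf M).subtype (QuotientGroup.mk' (T.subgroupOf M))
      (by rw [QuotientGroup.ker_mk', range_subtype])
  obtain ⟨n, hn⟩ := exists_dser_le_perf H
  obtain ⟨m, hm⟩ := exists_dser_eq_bot hsolM
  refine isSolvable_of_dser (n := n + m) (le_bot_iff.1 ?_)
  rw [dser_add, ← hm]
  exact dser_mono (le_inf (dser_le K n) ((dser_mono inf_le_left n).trans hn)) m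

/-- Odd `P`-invariant subgroups lie in `jof`. -/
theorem odd_le_jof {D : Subgroup G} (hDH : D ≤ H) (hD : Odd (Nat.card D))
    (hPD : (P : Subgroup G) ≤ normalizer (D : Set G)) : D ≤ jof H P := by
  haveI : Fact (Nat.Prime 2) := ⟨Nat.prime_two⟩
  set T := (P : Subgroup G) ⊓ perf H with hT
  have hTD : T ≤ normalizer (D : Set G) := inf_le_left.trans hPD
  have hcop : (Nat.card T).Coprime (Nat.card D) := by
    obtain ⟨k, hk⟩ := IsPGroup.iff_card.1 (P.isPGroup'.to_le (inf_le_left : T ≤ (P : Subgroup G)))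
    rw [hk]
    exact (Nat.coprime_two_left.2 hD).pow_left k
  have hTsol : Group.IsSolvable T :=
    Coprime.isSolvable_of_isPGroup (p := 2) (P.isPGroup'.to_le inf_le_left)
  rw [← Coprime.commutator_sup_centralizer hTD hcop (Or.inl hTsol)]
  refine sup_le (le_sup_of_le_left ?_) (le_sup_of_le_right ?_)
  · refine (commutator_mono le_rfl inf_le_right).trans ?_
    exact le_normalizer_iff_commutator_le_right.1
      (hDH.trans (le_normalizer.trans (normalizer_le_normalizer_perf H)))
  · set K := H ⊓ normalizer ((T : Subgroup G) : Set G)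
    have hE : D ⊓ centralizer (T : Set G) ≤ K := inf_le_inf hDH (centralizer_le_normalizer _)
    have hPK : (P : Subgroup G) ≤ K := normal_sylow_trace hab P hPH
    haveI : Group.IsSolvable K := isSolvable_trace hab P hPH
    have hPE : (P : Subgroup G) ≤ normalizer ((D ⊓ centralizer (T : Set G) : Subgroup G) : Set G) := by
      refine le_trans (le_inf hPD ?_) inf_normalizer_le_normalizer_inf
      exact le_trans (fun x hx => mem_centralizer_iff.2 fun t ht =>
        hab.comm P.isPGroup' ht.1 hx)
        ((le_normalizer (H := centralizer (T : Set G))))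
    have h2 := (solvable_core (hab.subgroup K) (P.subtype hPK)).2
      ((D ⊓ centralizer (T : Set G)).subgroupOf K)
      (by rw [Cores.card_subgroupOf hE]; exact hD.of_dvd_nat (card_dvd_of_le inf_le_left))
      (by
        rw [Sylow.coe_subtype]
        intro x hx
        exact mem_normalizer_iff.2 fun y => (mem_normalizer_iff.1 (hPE hx) (y : G)))
    have h3 := map_mono (f := K.subtype) h2
    rwa [subgroupOf_map_subtype, inf_of_le_left hE] at h3

/-- The Frattini argument. -/
theorem le_jof_sup_normalizer :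
    H ≤ jof H P ⊔ (H ⊓ normalizer ((P : Subgroup G) : Set G)) := by
  haveI : Fact (Nat.Prime 2) := ⟨Nat.prime_two⟩
  set T := (P : Subgroup G) ⊓ perf H with hT
  set K := H ⊓ normalizer (T : Set G) with hK
  have hPK : (P : Subgroup G) ≤ K := normal_sylow_trace hab P hPH
  have hH : H ≤ perf H ⊔ K := by
    set M := (perf H).subgroupOf H with hM
    haveI : M.Normal := normal_subgroupOf_of_le_normalizer
      (le_normalizer.trans (normalizer_le_normalizer_perf H))
    let S : Sylow 2 H := P.subtype hPH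
    have h1 := PReduced.frattini_sylow_inf S M
    intro h hh
    have h2 : (⟨h, hh⟩ : H) ∈ normalizer (((S : Subgroup H) ⊓ M : Subgroup H) : Set H) ⊔ M := h1 ▸ mem_top _
    obtain ⟨n, hn, m, hm, he⟩ := (mem_sup_of_normal_right).1 h2
    have e : (n : G) * m = h := congrArg Subtype.val he
    rw [← e]
    refine mul_mem (mem_sup_right ⟨n.2, Coprime.mem_normalizer_of_forall fun t ht => ?_⟩)
      (mem_sup_left (mem_subgroupOf.1 hm))
    have h3 := (mem_normalizer_iff.1 hn ⟨t, hPH ht.1⟩).1
      ⟨mem_subgroupOf.2 ht.1, mem_subgroupOf.2 ht.2⟩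
    exact ⟨mem_subgroupOf.1 h3.1, mem_subgroupOf.1 h3.2⟩
  refine hH.trans (sup_le (le_sup_of_le_left le_sup_left) ?_)
  haveI : Group.IsSolvable K := isSolvable_trace hab P hPH
  have h2 := (solvable_core (hab.subgroup K) (P.subtype hPK)).1
  intro x hx
  have h3 : (⟨x, hx⟩ : K) ∈ Cfsg.pPrimeCore 2 K ⊔
      normalizer ((P.subtype hPK : Subgroup K) : Set K) := h2 ▸ mem_top _
  obtain ⟨o, ho, n, hn, he⟩ := (mem_sup_of_normal_left).1 h3
  have e : (o : G) * n = x := congrArg Subtype.val he
  rw [← e]
  refine mul_mem (mem_sup_left (mem_sup_right ⟨o, ho, rfl⟩)) (mem_sup_right ⟨n.2.1, ?_⟩)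
  refine Coprime.mem_normalizer_of_forall fun y hy => ?_
  have := (mem_normalizer_iff.1 hn ⟨y, hPK hy⟩).1 (by exact hy)
  exact this

end

end Cfsg.Agent.SFourBound
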